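import Cfsg.Agent.H32.ThRep.P5.Data

/-!
Kernel checks of the chain certificate for the prime 5.
-/

set_option autoImplicit false
set_option Elab.async false
set_option maxRecDepth 100000

namespace Cfsg.Agent.H32.ThRep.P5

theorem base_ok : cert.baseOK = true := by decide +kernel

theorem word_ok0 : cert.wordOK 0 = true := by decide +kernel

theorem rel_ok0 : cert.relOK 0 = true := by decide +kernel

theorem pow_ok0 : cert.powOK 0 = true := by decide +kernel

theorem sep_ok0 : cert.sepOK 0 = true := by decide +kernel

theorem word_ok1 : cert.wordOK 1 = true := by decide +kernel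

theorem rel_ok1 : cert.relOK 1 = true := by decide +kernel

theorem pow_ok1 : cert.powOK 1 = true := by decide +kernel

theorem sep_ok1 : cert.sepOK 1 = true := by decide +kernel

theorem word_ok2 : cert.wordOK 2 = true := by decide +kernel

theorem rel_ok2 : cert.relOK 2 = true := by decide +kernel

theorem pow_ok2 : cert.powOK 2 = true := by decide +kernel

theorem sep_ok2 : cert.sepOK 2 = true := by decide +kernel

theorem ker_ok : cert.kerOK = true := by decide +kernel

theorem dvd_range : 5 ^ 3 ∣ Nat.card rep248.range :=
  cert.dvd_range (show Nat.Prime 5 by norm_num) base_ok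
    (fun i => match i with
      | 0 => word_ok0
      | 1 => word_ok1
      | 2 => word_ok2)
    (fun i => match i with
      | 0 => rel_ok0
      | 1 => rel_ok1
      | 2 => rel_ok2)
    (fun i => match i with
      | 0 => pow_ok0
      | 1 => pow_ok1
      | 2 => pow_ok2)
    (fun i => match i with
      | 0 => sep_ok0
      | 1 => sep_ok1
      | 2 => sep_ok2)
    ker_ok

end Cfsg.Agent.H32.ThRep.P5
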